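import Cfsg.Agent.H478.KB.Part
import Cfsg.Agent.H772.S8.Tool

/-!
# Class number bounds of the simple groups of order `|A12|`, `|A15|`, `|A16|` (helper478, S4908 FROB Co1)
-/

set_option autoImplicit false
set_option maxRecDepth 100000

namespace Cfsg.Agent.H478.KB

open Cfsg Cfsg.Agent.OrdDiv Cfsg.Agent.H940.Eng Cfsg.Agent.H772.S8

/-- recognition of a group by its order in the list of candidates -/
theorem real_of_card (B : Base) {M : Type} [Group M] [Finite M] (hs : IsSimpleGroup M) {N : ℕ} {l : List (ℕ × ℕ)}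
    (hv : valid l N = true) (hN : ¬ N.Prime) (hc : Nat.card M = N) {L : List Grp}
    (hL : ((cands l N).all fun g => !(Nat.beq N (ordN g)) || L.contains g) = true) : ∃ g ∈ L, Real g M := by
  have hna : ¬ ∀ a b : M, a * b = b * a := by
    intro hcomm
    let _ : CommGroup M := { (inferInstance : Group M) with mul_comm := hcomm }
    exact hN (hc ▸ IsSimpleGroup.prime_card (α := M))
  obtain ⟨g, hg, hr, ho⟩ := exists_good B.table (B.known M hs) hna hv (hc ▸ dvd_rfl)
  rw [List.all_eq_true] at hL
  have h1 := hL g hg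
  rw [hc] at ho
  rw [← ho, Nat.beq_refl] at h1
  exact ⟨g, by simpa using h1, hr⟩

/-- **KB12**: `k ≤ 77` for the simple groups of order `12!/2` -/
theorem kb12' (B : Base) {M : Type} [Group M] [Finite M] (hs : IsSimpleGroup M) (hc : Nat.card M = 239500800) :
    Nat.card (ConjClasses M) ≤ 77 := by
  obtain ⟨g, hg, hr⟩ := real_of_card B hs (N := 239500800) (l := [(2, 9), (3, 5), (5, 2), (7, 1), (11, 1)])
    (by decide +kernel) (by norm_num) hc (L := [.alt 12]) (by decide +kernel)
  obtain rfl := List.mem_singleton.1 hg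
  obtain ⟨e⟩ := hr
  rw [card_classes_congr e]
  exact k_alt12

theorem kb12 (B : Base) {M : Type} [Group M] [Finite M] (hs : IsSimpleGroup M) (hc : Nat.card M = 239500800) :
    Nat.card (ConjClasses M) ≤ 114 := (kb12' B hs hc).trans (by norm_num)

/-- **KB15** -/
theorem kb15 (B : Base) {M : Type} [Group M] [Finite M] (hs : IsSimpleGroup M) (hc : Nat.card M = 653837184000) :
    Nat.card (ConjClasses M) ≤ 1335 := by
  obtain ⟨g, hg, hr⟩ := real_of_card B hs (N := 653837184000)
    (l := [(2, 10), (3, 6), (5, 3), (7, 2), (11, 1), (13, 1)])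
    (by decide +kernel) (by norm_num) hc (L := [.alt 15]) (by decide +kernel)
  obtain rfl := List.mem_singleton.1 hg
  obtain ⟨e⟩ := hr
  rw [card_classes_congr e]
  exact k_alt15.trans (by norm_num)

/-- **KB16** -/
theorem kb16 (B : Base) {M : Type} [Group M] [Finite M] (hs : IsSimpleGroup M) (hc : Nat.card M = 10461394944000) :
    Nat.card (ConjClasses M) ≤ 3974 := by
  obtain ⟨g, hg, hr⟩ := real_of_card B hs (N := 10461394944000)
    (l := [(2, 14), (3, 6), (5, 3), (7, 2), (11, 1), (13, 1)])
    (by decide +kernel) (by norm_num) hc (L := [.alt 16]) (by decide +kernel)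
  obtain rfl := List.mem_singleton.1 hg
  obtain ⟨e⟩ := hr
  rw [card_classes_congr e]
  exact k_alt16.trans (by norm_num)

end Cfsg.Agent.H478.KB
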