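import Cfsg.Agent.H539.PartCount

/-!
# The class number of a symmetric group is at most the number of partitions, with a computable count (helper478)

`card_perm_le` : `k(S_n) ≤ cc f n n` for `2 n ≤ f`; `card_alt_le` : `k(A_n) < cc f n n` for `n ≥ 5`.
-/

set_option autoImplicit false

namespace Cfsg.Agent.H478.KB

open Cfsg.Agent.H539.PartCount

/-- the number of multisets of numbers between `2` and `k` of sum at most `n` (with fuel) -/
def cc : ℕ → ℕ → ℕ → ℕ
  | 0, _, _ => 1
  | f + 1, n, k => if k ≤ 1 then 1 else if n < k then cc f n (k - 1) else cc f n (k - 1) + cc f (n - k) k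

theorem exists_finset' (f : ℕ) : ∀ n k : ℕ, n + k ≤ f → ∃ F : Finset (Multiset ℕ), F.card ≤ cc f n k ∧
    ∀ s : Multiset ℕ, (∀ x ∈ s, 2 ≤ x ∧ x ≤ k) → s.sum ≤ n → s ∈ F := by
  have h0 : ∀ n k : ℕ, k ≤ 1 → ∃ F : Finset (Multiset ℕ), F.card ≤ 1 ∧
      ∀ s : Multiset ℕ, (∀ x ∈ s, 2 ≤ x ∧ x ≤ k) → s.sum ≤ n → s ∈ F := by
    intro n k hk
    refine ⟨{0}, by simp, ?_⟩
    intro s hs _
    rw [Finset.mem_singleton]
    refine Multiset.eq_zero_of_forall_notMem ?_
    intro a ha
    have h2 := hs a ha
    omega
  induction f with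
  | zero =>
    intro n k h
    exact h0 n k (by omega)
  | succ f ih =>
    intro n k h
    by_cases hk : k ≤ 1
    · have h1 : cc (f + 1) n k = 1 := by
        simp only [cc, if_pos hk]
      rw [h1]
      exact h0 n k hk
    · by_cases hn : n < k
      · have h1 : cc (f + 1) n k = cc f n (k - 1) := by
          simp only [cc, if_neg hk, if_pos hn]
        rw [h1]
        obtain ⟨F, hF, hm⟩ := ih n (k - 1) (by omega)
        refine ⟨F, hF, fun s hs hsum => hm s (fun x hx => ⟨(hs x hx).1, ?_⟩) hsum⟩
        have h2 := Multiset.single_le_sum (fun x _ => Nat.zero_le x) x hx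
        omega
      · have h1 : cc (f + 1) n k = cc f n (k - 1) + cc f (n - k) k := by
          simp only [cc, if_neg hk, if_neg hn]
        rw [h1]
        classical
        obtain ⟨F1, hF1, hm1⟩ := ih n (k - 1) (by omega)
        obtain ⟨F2, hF2, hm2⟩ := ih (n - k) k (by omega)
        refine ⟨F1 ∪ F2.image (fun t => k ::ₘ t), ?_, ?_⟩
        · calc (F1 ∪ F2.image (fun t => k ::ₘ t)).card
              ≤ F1.card + (F2.image (fun t => k ::ₘ t)).card := Finset.card_union_le _ _
            _ ≤ cc f n (k - 1) + cc f (n - k) k := Nat.add_le_add hF1 (Finset.card_image_le.trans hF2)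
        · intro s hs hsum
          rw [Finset.mem_union]
          by_cases hks : k ∈ s
          · right
            obtain ⟨t, rfl⟩ := Multiset.exists_cons_of_mem hks
            rw [Finset.mem_image]
            rw [Multiset.sum_cons] at hsum
            exact ⟨t, hm2 t (fun x hx => hs x (Multiset.mem_cons_of_mem hx)) (by omega), rfl⟩
          · left
            refine hm1 s (fun x hx => ⟨(hs x hx).1, ?_⟩) hsum
            have h2 := (hs x hx).2
            have h3 : x ≠ k := fun h => hks (h ▸ hx)
            omega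

theorem card_perm_le (α : Type*) [Fintype α] [DecidableEq α] {f : ℕ} (hf : 2 * Fintype.card α ≤ f) :
    Nat.card (ConjClasses (Equiv.Perm α)) ≤ cc f (Fintype.card α) (Fintype.card α) := by
  obtain ⟨F, hF, hm⟩ := exists_finset' f (Fintype.card α) (Fintype.card α) (by omega)
  refine le_trans ?_ hF
  let φ : ConjClasses (Equiv.Perm α) → F := fun c =>
    ⟨(Quotient.out c : Equiv.Perm α).cycleType, hm _
      (fun x hx => ⟨Equiv.Perm.two_le_of_mem_cycleType hx,
        (Multiset.single_le_sum (fun x _ => Nat.zero_le x) x hx).trans (Equiv.Perm.sum_cycleType_le _)⟩)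
      (Equiv.Perm.sum_cycleType_le _)⟩
  have hφ : Function.Injective φ := by
    intro c d h
    have h1 : (Quotient.out c : Equiv.Perm α).cycleType = (Quotient.out d : Equiv.Perm α).cycleType :=
      congrArg Subtype.val h
    rw [← Equiv.Perm.isConj_iff_cycleType_eq] at h1
    rw [← Quotient.out_eq c, ← Quotient.out_eq d]
    exact ConjClasses.mk_eq_mk_iff_isConj.2 h1
  have := Nat.card_le_card_of_injective φ hφ
  simpa using this

theorem card_alt_le {n f m : ℕ} (hn : 5 ≤ n) (hf : 2 * n ≤ f) (hm : cc f n n ≤ m) :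
    Nat.card (ConjClasses (alternatingGroup (Fin n))) ≤ m := by
  have h1 := card_conjClasses_alternating_lt (α := Fin n) (by rw [Fintype.card_fin]; exact hn)
  have h2 := card_perm_le (Fin n) (f := f) (by rw [Fintype.card_fin]; exact hf)
  rw [Fintype.card_fin] at h2
  omega

/-- `k(A12) ≤ 77` -/
theorem k_alt12 : Nat.card (ConjClasses (alternatingGroup (Fin 12))) ≤ 77 :=
  card_alt_le (f := 24) (by norm_num) (by norm_num) (by decide +kernel)

/-- `k(A15) ≤ 176` -/
theorem k_alt15 : Nat.card (ConjClasses (alternatingGroup (Fin 15))) ≤ 176 :=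
  card_alt_le (f := 30) (by norm_num) (by norm_num) (by decide +kernel)

/-- `k(A16) ≤ 231` -/
theorem k_alt16 : Nat.card (ConjClasses (alternatingGroup (Fin 16))) ≤ 231 :=
  card_alt_le (f := 32) (by norm_num) (by norm_num) (by decide +kernel)

end Cfsg.Agent.H478.KB
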